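import Cfsg.Agent.H791.Kite.Unit

/-!
# `PSU(3,4)` has an irreducible character of degree divisible by `15` (helper791)

The proof follows helper664 (`H664.R1.U3Four`, degree divisible by `39`).
-/

set_option autoImplicit false
set_option linter.unusedSimpArgs false
set_option linter.unusedSectionVars false

namespace Cfsg.Agent.H791.Kite

open Matrix Cfsg Cfsg.Agent.LieRecognition.PSUThreeSylow Cfsg.Agent.LieClassical.HermBasic
open Cfsg.Agent.H681.DegBasic Cfsg.Agent.H664.R1 Cfsg.Agent.H664.R1.U3 Cfsg.Agent.H671.H5 Cfsg.Agent.H670.Reg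
open scoped ComplexConjugate

universe u

section four

variable {F : Type*} [Field F] [Fintype F] {σ : F →+* F} [hσ : Fact (∀ x, σ (σ x) = x)]

/-- **A degree divisible by `15`.** -/
theorem exists_15 (hF : Fintype.card F = 4 ^ 2) (hs : ∀ x, σ x = x ^ 4) :
    ∃ n ∈ charDegrees (PG σ), 15 ∣ n := by
  classical
  have : Finite (GUJ σ) := inferInstance
  have : Finite (PG σ) := inferInstance
  have := Fintype.ofFinite (PG σ)
  have := Fintype.ofFinite (spP σ).U
  have := finite_Inv (σ := σ) hs
  have := Fintype.ofFinite {f : (spP σ).B →* ℂˣ // (spP σ).Inv f}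
  have := Characters.Core.finite_irr (G := PG σ)
  have := Fintype.ofFinite (IrrCharacter (PG σ))
  by_contra hcon
  push Not at hcon
  have H := fus (σ := σ) hF (by norm_num) hs
  obtain ⟨θ, hθ1, hθX, hfree⟩ := exists_theta (σ := σ) hF hs
  obtain ⟨x, hx, hx1⟩ := H.exists_x
  obtain ⟨u, hu, hu1⟩ := H.exists_u
  have hcardG : Nat.card (PG σ) = 62400 := by
    rw [(spP σ).card_G, (spP σ).card_B, card_UP hF hs, card_TP hF hs]
    norm_num
  have hidx : (spP σ).U.index = 975 := by
    have h1 := (spP σ).U.card_mul_index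
    rw [hcardG, card_UP hF hs] at h1
    omega
  -- the values
  have hv := fun ψ : IrrCharacter (PG σ) => H.values ψ.2 hx hx1 hu hu1
  choose n m k a b h1 h2 h3 h4 h5 h6 h7 h8 h9 using hv
  -- the Gelfand-Graev character
  obtain ⟨c, hc⟩ := Characters.Core.exists_nat_comb ((spP σ).isCharacter_gg θ)
  have hcψ : ∀ ψ : IrrCharacter (PG σ), classInner ((spP σ).gg θ) (ψ : PG σ → ℂ) = c ψ := by
    intro ψ
    rw [hc, Characters.Core.classInner_sum_nsmul_irr]
  have hcθ : ∀ ψ : IrrCharacter (PG σ),
      classInner (fun u : (spP σ).U => (ψ : PG σ → ℂ) u) (fun u => (θ u : ℂ)) = c ψ := by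
    intro ψ
    rw [← Complex.conj_natCast, ← hcψ, (spP σ).inner_gg θ ψ.2,
      Characters.Core.classInner_conj_symm]
  have hckb : ∀ ψ : IrrCharacter (PG σ), (c ψ : ℤ) = k ψ - b ψ := by
    intro ψ
    have e := H.inner_theta (Characters.Core.isIrr_isClassFunction ψ.2) hu hu1 θ hθ1 hθX
    rw [hcθ, h4, h3] at e
    exact_mod_cast e
  have hsum : ∑ ψ : IrrCharacter (PG σ), c ψ * n ψ = 975 := by
    have e := congrFun hc 1
    rw [Split.gg_def, OddOrderCharacters.IndRes.indFun_apply_one, hidx, map_one, Units.val_one,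
      mul_one, Finset.sum_apply] at e
    have e2 : ∀ ψ : IrrCharacter (PG σ), (c ψ • (ψ : PG σ → ℂ)) 1 = ((c ψ * n ψ : ℕ) : ℂ) := by
      intro ψ
      rw [Pi.smul_apply, nsmul_eq_mul, h1]
      push_cast
      ring
    rw [Finset.sum_congr rfl fun ψ _ => e2 ψ] at e
    exact_mod_cast e.symm
  have hnorm : ∑ ψ : IrrCharacter (PG σ), c ψ ^ 2 = 16 := by
    have e := (spP σ).norm_gg θ hfree
    rw [hc, norm_eq_sum, card_TP hF hs] at e
    exact_mod_cast e
  -- the constituents of the reducible principal series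
  have hpair : ∀ f : {f : (spP σ).B →* ℂˣ // (spP σ).Inv f}, ∃ β : IrrCharacter (PG σ),
      classInner ((spP σ).ps f.1) (β : PG σ → ℂ) ≠ 0 ∧ c β = 1 ∧ k β = 1 ∧
      n β = (if f.1 = 1 then 64 else 52) ∧
      ∀ ψ : IrrCharacter (PG σ), classInner ((spP σ).ps f.1) (ψ : PG σ → ℂ) ≠ 0 → ψ ≠ β →
        c ψ = 0 := by
    rintro ⟨f, hf⟩
    obtain ⟨χ, χ', hne, e, e1, e2, e3, e4, e5⟩ := H.pair hu hu1 f hf
    have hb0 : b χ' = 0 := by
      have := h3 χ'
      rw [e2] at this
      exact_mod_cast this.symm
    have hb1 : b χ = 1 := by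
      have := h3 χ
      rw [e1] at this
      exact_mod_cast this.symm
    have hk0 : k χ' = 1 := by
      have := h4 χ'
      rw [e4] at this
      exact_mod_cast this.symm
    have hk1 : k χ = 1 := by
      have := h4 χ
      rw [e3] at this
      exact_mod_cast this.symm
    refine ⟨χ', ?_, ?_, hk0, ?_, ?_⟩
    · show classInner ((spP σ).ps f) (χ' : PG σ → ℂ) ≠ 0
      rw [e, Characters.Core.classInner_add_left, Characters.Core.classInner_irr_self χ'.2,
        Characters.Core.classInner_irr_ne χ.2 χ'.2 (fun h' => hne (Subtype.ext h')), zero_add]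
      exact one_ne_zero
    · have := hckb χ'
      rw [hk0, hb0] at this
      omega
    · show n χ' = if f = 1 then 64 else 52
      split_ifs with h
      · subst h
        -- the trivial character is a constituent
        have g1 := (spP σ).inner_ps_one
        rw [e, Characters.Core.classInner_add_left] at g1
        rcases e5 with ⟨-, e6⟩ | ⟨e6, e7⟩
        · rw [h1] at e6
          have : n χ' = 4 ^ 3 := by exact_mod_cast e6
          omega
        · exfalso
          rw [Characters.Core.classInner_irr_ne χ.2 Characters.Core.isIrr_one,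
            Characters.Core.classInner_irr_ne χ'.2 Characters.Core.isIrr_one, add_zero] at g1
          · exact zero_ne_one g1
          · intro h
            rw [h, Pi.one_apply] at e7
            have : 1 = 4 * (4 ^ 2 - 4 + 1) := by exact_mod_cast e7
            omega
          · intro h
            rw [h, Pi.one_apply] at e6
            have : 1 = 4 ^ 2 - 4 + 1 := by exact_mod_cast e6
            omega
      · rcases e5 with ⟨e6, -⟩ | ⟨-, e7⟩
        · exfalso
          apply h
          -- `χ` is linear, hence trivial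
          obtain ⟨η, hη⟩ := Cfsg.Agent.Characters.Linear.exists_hom_of_isIrrCharacter χ.2 e6
          have htop := S_eq_top (σ := σ) hs
          have hη1 : η = 1 := by
            have g1 := perfect (σ := σ) hF (by norm_num) hs (η.comp (S σ).subtype)
            refine MonoidHom.ext fun y => ?_
            have hy : y ∈ S σ := by rw [htop]; exact Subgroup.mem_top y
            exact DFunLike.congr_fun g1 ⟨y, hy⟩
          have hχ1 : (χ : PG σ → ℂ) = 1 := by
            rw [hη, hη1]
            rfl
          by_contra hf1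
          have g2 := (spP σ).inner_ps_one_eq_zero f hf1
          rw [e, Characters.Core.classInner_add_left, hχ1,
            Characters.Core.classInner_irr_self Characters.Core.isIrr_one] at g2
          obtain ⟨d, hd⟩ := Characters.Core.classInner_isNat
            (Characters.Core.isIrr_isCharacter χ'.2)
            (Characters.Core.isCharacter_one (G := PG σ))
          rw [hd] at g2
          have : 1 + d = 0 := by exact_mod_cast g2
          omega
        · rw [h1] at e7
          have : n χ' = 4 * (4 ^ 2 - 4 + 1) := by exact_mod_cast e7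
          omega
    · intro ψ hψ hψ'
      have hψχ : ψ = χ := by
        by_contra hne'
        apply hψ
        show classInner ((spP σ).ps f) (ψ : PG σ → ℂ) = 0
        rw [e, Characters.Core.classInner_add_left,
          Characters.Core.classInner_irr_ne χ.2 ψ.2 (fun h' => hne' (Subtype.ext h'.symm)),
          Characters.Core.classInner_irr_ne χ'.2 ψ.2 (fun h' => hψ' (Subtype.ext h'.symm)),
          add_zero]
      subst hψχ
      have := hckb ψ
      rw [hk1, hb1] at this
      omega
  choose β hβ1 hβ2 hβ3 hβ4 hβ5 using hpair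
  have hβinj : Function.Injective β := by
    intro f g hfg
    by_contra hne
    have hne' : f.1 ≠ g.1 := fun h => hne (Subtype.ext h)
    have h10 := (spP σ).two_le f.2.1 g.2.1 hne' (β f).2 (hβ1 f) (by rw [hfg]; exact hβ1 g) (h4 (β f))
    rw [hβ3] at h10
    omega
  -- the sum over the image of `β`
  have hcardI : Fintype.card {f : (spP σ).B →* ℂˣ // (spP σ).Inv f} = 5 := by
    rw [← Nat.card_eq_fintype_card]
    exact card_Inv_four (σ := σ) hF hs
  have hone : (spP σ).Inv (1 : (spP σ).B →* ℂˣ) := ⟨fun _ _ => rfl, fun _ _ => rfl⟩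
  have hsum1 : ∑ ψ ∈ Finset.univ.image β, c ψ * n ψ = 272 := by
    rw [Finset.sum_image (fun f _ g _ h => hβinj h)]
    have e1 : ∀ f : {f : (spP σ).B →* ℂˣ // (spP σ).Inv f}, c (β f) * n (β f) =
        (if f = ⟨1, hone⟩ then 12 else 0) + 52 := by
      intro f
      rw [hβ2, hβ4, one_mul]
      by_cases h : f = ⟨1, hone⟩
      · rw [if_pos h, if_pos (by rw [h])]
      · rw [if_neg h, if_neg (fun h' => h (Subtype.ext h'))]
    rw [Finset.sum_congr rfl fun f _ => e1 f, Finset.sum_add_distrib,
      Finset.sum_ite_eq' Finset.univ, if_pos (Finset.mem_univ _), Finset.sum_const,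
      Finset.card_univ, hcardI]
    norm_num
  -- the other terms are divisible by thirteen
  have hdiv : ∀ ψ ∈ (Finset.univ.image β)ᶜ, 13 ∣ c ψ * n ψ := by
    intro ψ hψ
    rw [Finset.mem_compl, Finset.mem_image] at hψ
    push Not at hψ
    by_cases hk : k ψ = 0
    · -- cuspidal
      by_cases hc0 : c ψ = 0
      · rw [hc0, zero_mul]
        exact dvd_zero _
      apply Dvd.dvd.mul_left
      have e1 := hckb ψ
      have e2 := h5 ψ
      have e3 := h6 ψ
      have e4 := h7 ψ
      have e5 := h9 ψ
      rw [hk] at e1 e3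
      push_cast at e1 e2 e3 e4
      have hm : m ψ = 15 * c ψ := by omega
      obtain ⟨t, ht⟩ : ∃ t, n ψ = 15 * c ψ + 4 * t := by
        obtain ⟨t, ht⟩ := e4
        refine ⟨t.toNat, ?_⟩
        omega
      have hnd : n ψ ∣ 62400 := by
        rw [← hcardG]
        exact dvd_card (mem_charDegrees.2 ⟨_, ψ.2, h1 ψ⟩)
      have h3n : 3 ∣ n ψ := by omega
      have h15 := hcon (n ψ) (mem_charDegrees.2 ⟨_, ψ.2, h1 ψ⟩)
      by_contra h13
      have hc3 : c ψ ≤ 3 := by
        have e6 : ∑ ψ' ∈ ({ψ, β ⟨1, hone⟩} : Finset (IrrCharacter (PG σ))), c ψ' ^ 2 ≤ 16 := by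
          rw [← hnorm]
          exact Finset.sum_le_sum_of_subset (Finset.subset_univ _)
        rw [Finset.sum_pair (fun h => hψ ⟨1, hone⟩ (Finset.mem_univ _) h.symm), hβ2] at e6
        by_contra hlt
        have : 4 ≤ c ψ := by omega
        nlinarith
      have h5n := arith_five hnd h13 (Nat.one_le_iff_ne_zero.2 hc0) hc3 ht
      omega
    · -- principal series
      obtain ⟨f, hfU, hfψ⟩ := (spP σ).exists_ps ψ.2 (by
        rw [h4]
        exact_mod_cast hk)
      by_cases hinv : ∀ t, ∀ ht : t ∈ (spP σ).T, f ⟨t, (spP σ).TB ht⟩ =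
          f ⟨(spP σ).w⁻¹ * t * (spP σ).w, (spP σ).TB ((spP σ).wT t ht)⟩
      · have := hβ5 ⟨f, hfU, hinv⟩ ψ hfψ (fun h => hψ _ (Finset.mem_univ _) h.symm)
        rw [this, zero_mul]
        exact dvd_zero _
      · push Not at hinv
        have hirr := (spP σ).isIrr_ps f hinv
        have e1 : (spP σ).ps f = (ψ : PG σ → ℂ) := by
          by_contra hne
          exact hfψ (Characters.Core.classInner_irr_ne hirr ψ.2 hne)
        have e2 := h1 ψ
        rw [← e1, (spP σ).ps_one, card_UP hF hs] at e2
        have e3 : 4 ^ 3 + 1 = n ψ := by exact_mod_cast e2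
        apply Dvd.dvd.mul_left
        omega
  have htot := Finset.sum_add_sum_compl (Finset.univ.image β) (fun ψ => c ψ * n ψ)
  rw [hsum, hsum1] at htot
  obtain ⟨z, hz⟩ := Finset.dvd_sum hdiv
  rw [hz] at htot
  omega

end four

/-- A degree of `PSU(3,4)` divisible by `15`. -/
theorem degree_fifteen {S' : Type u} [Group S'] {F : Type*} [Field F] [Fintype F]
    (hF : Fintype.card F = 4 ^ 2) (e : S' ≃* Cfsg.PSU 3 F 4) : ∃ n ∈ charDegrees S', 15 ∣ n := by
  obtain ⟨σ, hσ, hs, ⟨e'⟩⟩ := exists_iso hF
  obtain ⟨n, hn, h39⟩ := exists_15 (σ := σ) hF hs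
  have htop := S_eq_top (σ := σ) hs
  let e2 : S σ ≃* PG σ := (MulEquiv.subgroupCongr htop).trans Subgroup.topEquiv
  exact ⟨n, PSLTwo.mem_of_equiv ((e.trans e').trans e2) hn, h39⟩

/-- `PSU₃(4)` -/
theorem four {S : Type u} [Group S] {F : Type*} [Field F] [Fintype F] (hF : Fintype.card F = 4 ^ 2)
    (e : S ≃* Cfsg.PSU 3 F 4) : Kite S := by
  obtain ⟨p, D⟩ := exists_DD hF (by norm_num) e
  obtain rfl := p_eq D Nat.prime_two (by norm_num)
  obtain ⟨n, hn, h39⟩ := degree_four hF e
  obtain ⟨n', hn', h15⟩ := degree_fifteen hF e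
  refine kite_of (u := 3) (v := 13) (w := 2) (z := 5) (by norm_num) ?_ ?_ ?_ ?_ ?_
  · exact adj_of_mem hn Nat.prime_three prime13 (by norm_num) (dvd_trans (by norm_num) h39) (dvd_trans (by norm_num) h39)
  · exact D.adjB Nat.prime_three Nat.prime_two (by norm_num) (by norm_num) (by norm_num)
  · exact D.adjC prime13 Nat.prime_two (by norm_num) (by norm_num) (by norm_num)
  · exact adj_of_mem hn' Nat.prime_three Nat.prime_five (by norm_num) (dvd_trans (by norm_num) h15)
      (dvd_trans (by norm_num) h15)
  · exact D.adjA prime13 Nat.prime_five (by norm_num) (by norm_num) (by norm_num)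

end Cfsg.Agent.H791.Kite
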